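import Groth.Agent.RGFlatLib.Pres
import Groth.Agent.FlatLocus.Main
import Groth.Agent.FlatAssLib.Noeth
import Groth.Agent.CAlgBasics.FlatAux

/-!
# Maps into flat modules injective on the closed fibre, over an algebra essentially of finite type
-/

set_option autoImplicit false
set_option linter.style.haveILetI false
set_option linter.unusedSectionVars false
set_option maxHeartbeats 1000000
set_option backward.isDefEq.respectTransparency false

universe u

open MvPolynomial Groth.Agent.GenFree Groth.Agent.FlatLocus Groth.Agent.RGFlatLib Groth.Agent.FlatAssLib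

noncomputable section

namespace Groth.Agent.EssInjLib

/-- A local algebra essentially of finite type is a localisation of an image of a polynomial ring. -/
theorem exists_poly_chart (A B : Type u) [CommRing A] [CommRing B] [IsLocalRing B] [Algebra A B] [Algebra.EssFiniteType A B] :
    ∃ (n : ℕ) (π : MvPolynomial (Fin n) A →ₐ[A] B),
      ∀ b : B, ∃ t, π t ∉ IsLocalRing.maximalIdeal B ∧ π t * b ∈ Set.range π := by
  obtain ⟨n, π₀, hπ₀⟩ := Algebra.FiniteType.iff_quotient_mvPolynomial''.mp
    (inferInstance : Algebra.FiniteType A (Algebra.EssFiniteType.subalgebra A B))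
  refine ⟨n, (Algebra.EssFiniteType.subalgebra A B).val.comp π₀, fun b => ?_⟩
  obtain ⟨⟨x, s⟩, hx⟩ := IsLocalization.surj (Algebra.EssFiniteType.submonoid A B) b
  obtain ⟨t, ht⟩ := hπ₀ s.1
  obtain ⟨y, hy⟩ := hπ₀ x
  refine ⟨t, fun h => ?_, y, ?_⟩
  · exact (IsLocalRing.mem_maximalIdeal _).mp h (by
      show IsUnit ((π₀ t : Algebra.EssFiniteType.subalgebra A B) : B)
      rw [ht]
      exact s.2)
  · show ((π₀ y : Algebra.EssFiniteType.subalgebra A B) : B) =
      ((π₀ t : Algebra.EssFiniteType.subalgebra A B) : B) * b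
    rw [ht, hy, mul_comm]
    exact hx.symm

/-- Images of the elements of a span lift up to the multiplicative set. -/
theorem exists_smul_lift {P B N M F : Type u} [CommRing P] [CommRing B] [Algebra P B] [AddCommGroup N] [Module B N]
    [AddCommGroup M] [Module B M] [Module P M] [IsScalarTower P B M] [AddCommGroup F] [Module P F] {T : Submonoid P}
    (hB : ∀ b : B, ∃ t ∈ T, t • b ∈ Set.range (algebraMap P B)) (u : N →ₗ[B] M) (G : F →ₗ[P] M) {ι : Type*}
    (w : ι → N) (v : ι → F) (t : ι → P) (ht : ∀ i, t i ∈ T) (hv : ∀ i, t i • u (w i) = G (v i))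
    {y : N} (hy : y ∈ Submodule.span B (Set.range w)) :
    ∃ s ∈ T, ∃ z ∈ Submodule.span P (Set.range v), s • u y = G z := by
  induction hy using Submodule.span_induction with
  | mem y hy =>
    obtain ⟨i, rfl⟩ := hy
    exact ⟨t i, ht i, v i, Submodule.subset_span ⟨i, rfl⟩, hv i⟩
  | zero => exact ⟨1, T.one_mem, 0, zero_mem _, by simp⟩
  | add x y _ _ hx hy =>
    obtain ⟨s₁, hs₁, z₁, hz₁, h₁⟩ := hx
    obtain ⟨s₂, hs₂, z₂, hz₂, h₂⟩ := hy
    refine ⟨s₁ * s₂, T.mul_mem hs₁ hs₂, s₂ • z₁ + s₁ • z₂,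
      add_mem (Submodule.smul_mem _ _ hz₁) (Submodule.smul_mem _ _ hz₂), ?_⟩
    rw [map_add, smul_add, map_add, map_smul, map_smul, ← h₁, ← h₂, smul_smul, smul_smul, mul_comm s₂ s₁]
  | smul b y _ hy =>
    obtain ⟨s, hs, z, hz, h⟩ := hy
    obtain ⟨e, he, g, hg⟩ := hB b
    refine ⟨e * s, T.mul_mem he hs, g • z, Submodule.smul_mem _ _ hz, ?_⟩
    rw [map_smul, map_smul, ← h, mul_smul, ← algebraMap_smul B g (s • u y), hg, smul_assoc]
    congr 1
    exact (smul_comm b s (u y)).symm

/-- Vectors with coefficients in `I` map into `I M`. -/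
theorem map_cf_mem {R M : Type u} [CommRing R] {a n : ℕ} [AddCommGroup M] [Module R M] [Module (MvPolynomial (Fin n) R) M]
    [IsScalarTower R (MvPolynomial (Fin n) R) M] (G : FreeMod R a n →ₗ[MvPolynomial (Fin n) R] M) (I : Ideal R)
    {x : FreeMod R a n} (hx : x ∈ cf I) : G x ∈ (I • ⊤ : Submodule R M) := by
  rw [cf_eq_smul_top] at hx
  refine Submodule.smul_induction_on hx (fun r hr y _ => ?_) fun y z hy hz => by rw [map_add]; exact add_mem hy hz
  rw [map_smul]
  generalize G y = m
  induction hr using Submodule.span_induction generalizing m with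
  | mem r hr =>
    obtain ⟨c, hc, rfl⟩ := hr
    rw [show (C c : MvPolynomial (Fin n) R) = algebraMap R _ c from rfl, algebraMap_smul]
    exact Submodule.smul_mem_smul hc trivial
  | zero => rw [zero_smul]; exact zero_mem _
  | add r s _ _ hr hs => rw [add_smul]; exact add_mem (hr m) (hs m)
  | smul c r _ hr => rw [smul_assoc, smul_comm]; exact hr _

/-- Images of `I N` lift into `I U` up to the multiplicative set. -/
theorem exists_lift_smul_top {R B N M : Type u} [CommRing R] [CommRing B] {a n : ℕ} [Algebra (MvPolynomial (Fin n) R) B]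
    [AddCommGroup N] [Module B N] [Module R N] [AddCommGroup M] [Module B M] [Module R M]
    [Module (MvPolynomial (Fin n) R) M] [IsScalarTower (MvPolynomial (Fin n) R) B M] [IsScalarTower R (MvPolynomial (Fin n) R) M]
    [LinearMap.CompatibleSMul N M R B] {T : Submonoid (MvPolynomial (Fin n) R)}
    (hB : ∀ b : B, ∃ t ∈ T, t • b ∈ Set.range (algebraMap (MvPolynomial (Fin n) R) B)) (u : N →ₗ[B] M)
    (G : FreeMod R a n →ₗ[MvPolynomial (Fin n) R] M) {c : ℕ} (w : Fin c → N) (v : Fin c → FreeMod R a n)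
    (t : Fin c → MvPolynomial (Fin n) R) (ht : ∀ i, t i ∈ T) (hv : ∀ i, t i • u (w i) = G (v i))
    (hw : Submodule.span B (Set.range w) = ⊤) (U : Submodule (MvPolynomial (Fin n) R) (FreeMod R a n))
    (hvU : Submodule.span _ (Set.range v) ≤ U) (I : Ideal R) {y : N} (hy : y ∈ (I • ⊤ : Submodule R N)) :
    ∃ s ∈ T, ∃ z ∈ I.map (C : R →+* MvPolynomial (Fin n) R) • U, s • u y = G z := by
  refine Submodule.smul_induction_on hy (fun r hr y _ => ?_) ?_
  · obtain ⟨s, hs, z, hz, h⟩ := exists_smul_lift hB u G w v t ht hv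
      (hw ▸ Submodule.mem_top : y ∈ Submodule.span B (Set.range w))
    refine ⟨s, hs, C r • z, Submodule.smul_mem_smul (Ideal.mem_map_of_mem _ hr) (hvU hz), ?_⟩
    rw [LinearMap.map_smul_of_tower u r y, map_smul, ← h, show (C r : MvPolynomial (Fin n) R) = algebraMap R _ r from rfl,
      algebraMap_smul]
    exact smul_comm s r (u y)
  · rintro y₁ y₂ ⟨s₁, hs₁, z₁, hz₁, h₁⟩ ⟨s₂, hs₂, z₂, hz₂, h₂⟩
    refine ⟨s₁ * s₂, T.mul_mem hs₁ hs₂, s₂ • z₁ + s₁ • z₂,
      add_mem (Submodule.smul_mem _ _ hz₁) (Submodule.smul_mem _ _ hz₂), ?_⟩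
    rw [map_add, smul_add, map_add, map_smul, map_smul, ← h₁, ← h₂, smul_smul, smul_smul, mul_comm s₂ s₁]

/-- Relations with coefficients in `I` among enough relations. -/
theorem rel_of_lift {R M : Type u} [CommRing R] {a n : ℕ} [AddCommGroup M] [Module (MvPolynomial (Fin n) R) M]
    {T : Submonoid (MvPolynomial (Fin n) R)} (G : FreeMod R a n →ₗ[MvPolynomial (Fin n) R] M) (I : Ideal R)
    (K' U : Submodule (MvPolynomial (Fin n) R) (FreeMod R a n)) (hKU : K' ≤ U) (hsat : LinearMap.ker G ≤ Sat T K')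
    (hrel : Rel T I K')
    (h : ∀ x ∈ U, x ∈ cf I → ∃ s ∈ T, ∃ z ∈ I.map (C : R →+* MvPolynomial (Fin n) R) • U, s • G x = G z) :
    Rel T I U := by
  rintro x ⟨hxU, hxcf⟩
  obtain ⟨s, hs, z, hz, hzG⟩ := h x hxU hxcf
  obtain ⟨s', hs', hs'K⟩ := hsat (show s • x - z ∈ LinearMap.ker G by
    rw [LinearMap.mem_ker, map_sub, map_smul, hzG, sub_self])
  have hzcf : z ∈ cf I := by
    rw [cf_eq_smul_top]
    exact Submodule.smul_mono le_rfl le_top hz
  obtain ⟨s'', hs'', hr⟩ := hrel ⟨hs'K, Submodule.smul_mem _ _ (sub_mem (Submodule.smul_mem _ _ hxcf) hzcf)⟩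
  refine mem_sat_of_smul hs (mem_sat_of_smul hs' ⟨s'', hs'', ?_⟩)
  rw [← sub_add_cancel (s • x) z, smul_add, smul_add]
  exact add_mem (Submodule.smul_mono le_rfl hKU hr) (Submodule.smul_mem _ _ (Submodule.smul_mem _ _ hz))

variable {A B N M : Type u} [CommRing A] [IsLocalRing A] [CommRing B] [IsLocalRing B] [Algebra A B]
  [IsLocalHom (algebraMap A B)]
  [AddCommGroup N] [Module B N] [Module A N] [IsScalarTower A B N] [Module.Finite B N]
  [AddCommGroup M] [Module B M] [Module A M] [IsScalarTower A B M] [Module.Finite B M]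

open IsLocalRing in
/-- The cokernel is flat. -/
theorem flat_coker [Algebra.EssFiniteType A B] [Module.Flat A M] (u : N →ₗ[B] M)
    (hu : ∀ x, u x ∈ (maximalIdeal A • ⊤ : Submodule A M) → x ∈ (maximalIdeal A • ⊤ : Submodule A N)) :
    Module.Flat A (M ⧸ LinearMap.range u) := by
  classical
  obtain ⟨n, π, hloc⟩ := exists_poly_chart A B
  let P := MvPolynomial (Fin n) A
  letI : Algebra P B := π.toRingHom.toAlgebra
  haveI : IsScalarTower A P B := .of_algebraMap_eq fun r => (π.commutes r).symm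
  let Q : PrimeSpectrum P := ⟨(maximalIdeal B).comap π.toRingHom, inferInstance⟩
  let T := Q.asIdeal.primeCompl
  have hTB : ∀ t ∈ T, IsUnit (algebraMap P B t) := fun t ht => notMem_maximalIdeal.mp ht
  have hB : ∀ b : B, ∃ t ∈ T, t • b ∈ Set.range (algebraMap P B) := fun b => by
    obtain ⟨t, ht, h⟩ := hloc b
    exact ⟨t, ht, by rw [Algebra.smul_def]; exact h⟩
  have hQ : Q.asIdeal.comap (C : A →+* P) = maximalIdeal A := by
    refine Eq.trans ?_ (local_hom_TFAE (algebraMap A B) |>.out 0 4 |>.mp ‹_›)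
    ext r
    show π (C r) ∈ maximalIdeal B ↔ algebraMap A B r ∈ maximalIdeal B
    rw [← π.commutes r]; rfl
  letI : Module P M := Module.compHom M π.toRingHom
  haveI : IsScalarTower P B M := .of_algebraMap_smul fun _ _ => rfl
  haveI : IsScalarTower A P M := .of_algebraMap_smul fun r m => by
    show π (algebraMap A P r) • m = r • m
    rw [π.commutes, algebraMap_smul]
  letI : Module P N := Module.compHom N π.toRingHom
  haveI : IsScalarTower P B N := .of_algebraMap_smul fun _ _ => rfl
  haveI : IsScalarTower A P N := .of_algebraMap_smul fun r m => by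
    show π (algebraMap A P r) • m = r • m
    rw [π.commutes, algebraMap_smul]
  obtain ⟨a, q₀, hq₀⟩ := Module.Finite.exists_fin' B M
  let G := RGFlatLib.genMap (R := A) (n := n) q₀
  have hGu : ∀ t ∈ T, IsUnit (algebraMap P (Module.End P M) t) := fun t ht =>
    RGFlatLib.isUnit_end_of_isUnit (hTB t ht)
  have hGs := RGFlatLib.genMap_surj (R := A) T hB q₀ hq₀
  have hKflat : Q ∈ flatSet (LinearMap.ker G) := RGFlatLib.mem_flatSet_ker Q G hGu hGs
  obtain ⟨K', hfg, hle, hsat, hK'flat⟩ := RGFlatLib.exists_fg_le_sat (LinearMap.ker G) Q hKflat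
  obtain ⟨c, w, hw⟩ := Module.Finite.exists_fin (R := B) (M := N)
  choose t ht v hv using fun j : Fin c => hGs (u (w j))
  let U := K' ⊔ Submodule.span P (Set.range v)
  have hU : U.FG := hfg.sup (Submodule.fg_span (Set.finite_range v))
  have hUrel : Rel T (maximalIdeal A) U := by
    refine rel_of_lift G _ K' U le_sup_left hsat (mem_flatSet_iff.mp hK'flat _) fun x hxU hxcf => ?_
    obtain ⟨k, hk, z, hz, rfl⟩ := Submodule.mem_sup.mp hxU
    obtain ⟨d, rfl⟩ := (Submodule.mem_span_range_iff_exists_fun P).mp hz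
    have hGz : G (k + ∑ j, d j • v j) = u (∑ j, d j • t j • w j) := by
      rw [map_add, show G k = 0 from LinearMap.mem_ker.mp (hle hk), zero_add, map_sum, map_sum]
      exact Finset.sum_congr rfl fun j _ => by
        rw [map_smul, ← hv, LinearMap.map_smul_of_tower, LinearMap.map_smul_of_tower]
    rw [hGz]
    exact exists_lift_smul_top hB u G w v t ht hv hw U le_sup_right _ (hu _ (hGz ▸ map_cf_mem G _ hxcf))
  have hUflat : Q ∈ flatSet U := mem_flatSet_of_rel_fg U hU Q (by rw [hQ]; exact hUrel)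
  -- the cokernel
  letI : Module P (M ⧸ LinearMap.range u) := Module.compHom _ π.toRingHom
  haveI : IsScalarTower P B (M ⧸ LinearMap.range u) := .of_algebraMap_smul fun _ _ => rfl
  haveI : IsScalarTower A P (M ⧸ LinearMap.range u) := .of_algebraMap_smul fun r m => by
    show π (algebraMap A P r) • m = r • m
    rw [π.commutes, algebraMap_smul]
  let G' : FreeMod A a n →ₗ[P] M ⧸ LinearMap.range u :=
    ((LinearMap.range u).mkQ.restrictScalars P) ∘ₗ G
  have hG'u : ∀ t ∈ T, IsUnit (algebraMap P (Module.End P (M ⧸ LinearMap.range u)) t) := fun t ht =>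
    RGFlatLib.isUnit_end_of_isUnit (hTB t ht)
  have hG's : ∀ y : M ⧸ LinearMap.range u, ∃ t ∈ T, ∃ x, t • y = G' x := fun y => by
    obtain ⟨y, rfl⟩ := Submodule.Quotient.mk_surjective _ y
    obtain ⟨t, ht, x, hx⟩ := hGs y
    exact ⟨t, ht, x, congrArg (Submodule.Quotient.mk) hx⟩
  have hle' : U ≤ LinearMap.ker G' := by
    refine sup_le (fun x hx => ?_) ?_
    · show (LinearMap.range u).mkQ (G x) = 0
      rw [show G x = 0 from LinearMap.mem_ker.mp (hle hx), map_zero]
    · rw [Submodule.span_le]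
      rintro _ ⟨j, rfl⟩
      show (LinearMap.range u).mkQ (G (v j)) = 0
      rw [Submodule.mkQ_apply, Submodule.Quotient.mk_eq_zero, ← hv, ← LinearMap.map_smul_of_tower]
      exact LinearMap.mem_range_self _ _
  have hsat' : LinearMap.ker G' ≤ Sat T U := by
    intro x hx
    obtain ⟨y, hy⟩ := (Submodule.Quotient.mk_eq_zero _).mp (LinearMap.mem_ker.mp hx : (LinearMap.range u).mkQ (G x) = 0)
    obtain ⟨s, hs, z, hz, h⟩ := exists_smul_lift hB u G w v t ht hv
      (hw ▸ Submodule.mem_top : y ∈ Submodule.span B (Set.range w))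
    have hker : s • x - z ∈ LinearMap.ker G := by
      rw [LinearMap.mem_ker, map_sub, map_smul, ← hy, h, sub_self]
    obtain ⟨s', hs', hs'K⟩ := hsat hker
    refine mem_sat_of_smul hs ⟨s', hs', ?_⟩
    rw [← sub_add_cancel (s • x) z, smul_add]
    exact add_mem (Submodule.mem_sup_left hs'K) (Submodule.smul_mem _ _ (Submodule.mem_sup_right hz))
  have hflat : Q ∈ flatSet (LinearMap.ker G') :=
    mem_flatSet_congr hsat' (hle'.trans (le_sat _ _)) hUflat
  haveI := RGFlatLib.isLocalizedModule_liftQ T G' hG'u hG's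
  exact (flat_iff_rel _ T ((LinearMap.ker G').liftQ G' le_rfl)).mpr (mem_flatSet_iff.mp hflat)

open IsLocalRing in
/-- The map is injective. -/
theorem injective [Algebra.EssFiniteType A B] [Module.Flat A M] (u : N →ₗ[B] M)
    (hu : ∀ x, u x ∈ (maximalIdeal A • ⊤ : Submodule A M) → x ∈ (maximalIdeal A • ⊤ : Submodule A N)) :
    Function.Injective u := by
  classical
  haveI := flat_coker u hu
  haveI : Module.Flat A (LinearMap.range u) :=
    CAlgBasics.flat_ker_of_exact (f := (LinearMap.range u).subtype.restrictScalars A)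
      (g := (LinearMap.range u).mkQ.restrictScalars A) (LinearMap.range u).subtype_injective
      (LinearMap.exact_subtype_mkQ _) (Submodule.mkQ_surjective _)
  -- the image is finitely presented
  obtain ⟨n, π, hloc⟩ := exists_poly_chart A B
  let P := MvPolynomial (Fin n) A
  letI : Algebra P B := π.toRingHom.toAlgebra
  letI : Module P (LinearMap.range u) := Module.compHom _ π.toRingHom
  haveI : IsScalarTower P B (LinearMap.range u) := .of_algebraMap_smul fun _ _ => rfl
  haveI : IsScalarTower A P (LinearMap.range u) := .of_algebraMap_smul fun r m => by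
    show π (algebraMap A P r) • m = r • m
    rw [π.commutes, algebraMap_smul]
  haveI : Module.FinitePresentation B (LinearMap.range u) :=
    RGFlatLib.finitePresentation_of_flat_at (R := A) ⟨(maximalIdeal B).comap π.toRingHom, inferInstance⟩
      (fun t ht => notMem_maximalIdeal.mp ht) fun b => by
        obtain ⟨t, ht, h⟩ := hloc b
        exact ⟨t, ht, by rw [Algebra.smul_def]; exact h⟩
  have hfg : (LinearMap.ker u).FG := by
    have h := Module.FinitePresentation.fg_ker u.rangeRestrict u.surjective_rangeRestrict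
    rwa [LinearMap.ker_rangeRestrict] at h
  rw [← LinearMap.ker_eq_bot]
  refine Submodule.eq_bot_of_le_smul_of_le_jacobson_bot ((maximalIdeal A).map (algebraMap A B)) _ hfg ?_
    ((Ideal.map_le_iff_le_comap.mpr fun r hr => Ideal.mem_comap.mpr (map_nonunit (algebraMap A B) r hr)).trans
      (jacobson_eq_maximalIdeal ⊥ bot_ne_top).ge)
  intro k hk
  have hk' : k ∈ (maximalIdeal A • ⊤ : Submodule A N) := hu k (by rw [LinearMap.mem_ker.mp hk]; exact zero_mem _)
  obtain ⟨m, r, x, hr, rfl⟩ : ∃ (m : ℕ) (r : Fin m → A) (x : Fin m → N), (∀ i, r i ∈ maximalIdeal A) ∧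
      k = ∑ i, r i • x i := by
    refine Submodule.smul_induction_on hk' (fun a ha y _ => ⟨1, fun _ => a, fun _ => y, fun _ => ha, by simp⟩) ?_
    rintro y₁ y₂ ⟨m₁, r₁, x₁, h₁, rfl⟩ ⟨m₂, r₂, x₂, h₂, rfl⟩
    refine ⟨m₁ + m₂, Fin.append r₁ r₂, Fin.append x₁ x₂, Fin.addCases (by simp [h₁]) (by simp [h₂]), ?_⟩
    simp [Fin.sum_univ_add]
  have hrel : ∑ i, r i • u.rangeRestrict (x i) = 0 := Subtype.ext (by
    rw [AddSubmonoidClass.coe_finsetSum]
    simpa [LinearMap.map_smul_of_tower, map_sum] using LinearMap.mem_ker.mp hk)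
  obtain ⟨l, e, y, hy, he⟩ := Module.Flat.isTrivialRelation_of_sum_smul_eq_zero hrel
  choose y' hy' using fun j => u.surjective_rangeRestrict (y j)
  have hdiff : ∀ i, x i - ∑ j, e i j • y' j ∈ LinearMap.ker u := fun i => by
    rw [LinearMap.mem_ker, map_sub, map_sum, sub_eq_zero]
    refine (congrArg Subtype.val (hy i)).trans ?_
    rw [AddSubmonoidClass.coe_finsetSum]
    exact Finset.sum_congr rfl fun j _ => by
      rw [LinearMap.map_smul_of_tower, ← hy']
      rfl
  have hsum : ∑ i, r i • x i = ∑ i, algebraMap A B (r i) • (x i - ∑ j, e i j • y' j) := by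
    have h0 : ∑ i, r i • ∑ j, e i j • y' j = 0 := by
      simp only [Finset.smul_sum, smul_smul]
      rw [Finset.sum_comm]
      simp only [← Finset.sum_smul, he, zero_smul, Finset.sum_const_zero]
    simp only [algebraMap_smul, smul_sub, Finset.sum_sub_distrib, h0, sub_zero]
  rw [hsum]
  exact Submodule.sum_mem _ fun i _ => Submodule.smul_mem_smul (Ideal.mem_map_of_mem _ (hr i)) (hdiff i)

end Groth.Agent.EssInjLib
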